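import Mathlib.CategoryTheory.Localization.CalculusOfFractions
import Mathlib.CategoryTheory.Limits.Shapes.ZeroMorphisms
import Mathlib.CategoryTheory.Preadditive.Basic

/-! Zero objects in a localization with calculus of fractions. -/

universe v v' u u'

open CategoryTheory Category Limits
open scoped ZeroObject

namespace Groth.Agent.TriLoc.Zero

variable {C : Type u} [Category.{v} C] [Preadditive C] [HasZeroObject C]
  {D : Type u'} [Category.{v'} D] (L : C ⥤ D) (W : MorphismProperty C) [L.IsLocalization W]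

theorem isZero_obj_zero [W.HasLeftCalculusOfFractions] [W.HasRightCalculusOfFractions] :
    IsZero (L.obj (0 : C)) := by
  haveI := Localization.essSurj L W
  constructor
  · intro Y
    obtain ⟨Y₀, ⟨e⟩⟩ : ∃ Y₀, Nonempty (L.obj Y₀ ≅ Y) := ⟨_, ⟨L.objObjPreimageIso Y⟩⟩
    refine ⟨{ default := L.map 0 ≫ e.hom, uniq := fun g => ?_ }⟩
    suffices h : g ≫ e.inv = L.map 0 by
      show g = L.map 0 ≫ e.hom
      rw [← h, assoc, e.inv_hom_id, comp_id]
    obtain ⟨φ, hφ⟩ := Localization.exists_leftFraction L W (g ≫ e.inv)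
    haveI := Localization.inverts L W _ φ.hs
    rw [hφ, ← cancel_mono (L.map φ.s), MorphismProperty.LeftFraction.map_comp_map_s, ← L.map_comp,
      (isZero_zero C).eq_of_src φ.f (0 ≫ φ.s)]
  · intro X
    obtain ⟨X₀, ⟨e⟩⟩ : ∃ X₀, Nonempty (L.obj X₀ ≅ X) := ⟨_, ⟨L.objObjPreimageIso X⟩⟩
    refine ⟨{ default := e.inv ≫ L.map 0, uniq := fun g => ?_ }⟩
    suffices h : e.hom ≫ g = L.map 0 by
      show g = e.inv ≫ L.map 0
      rw [← h, e.inv_hom_id_assoc]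
    obtain ⟨φ, hφ⟩ := Localization.exists_rightFraction L W (e.hom ≫ g)
    haveI := Localization.inverts L W _ φ.hs
    rw [hφ, ← cancel_epi (L.map φ.s), MorphismProperty.RightFraction.map_s_comp_map, ← L.map_comp,
      (isZero_zero C).eq_of_tgt φ.f (φ.s ≫ 0)]

theorem isZero_obj_of_mem [W.HasLeftCalculusOfFractions] [W.HasRightCalculusOfFractions]
    {X Y : C} (h : W (0 : X ⟶ Y)) : IsZero (L.obj X) ∧ IsZero (L.obj Y) := by
  haveI := Localization.inverts L W _ h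
  have h0 : (0 : X ⟶ Y) = (0 : X ⟶ (0 : C)) ≫ (0 : (0 : C) ⟶ Y) := zero_comp.symm
  have hZ := isZero_obj_zero L W
  constructor
  · haveI : Mono (L.map (0 : X ⟶ (0 : C)) ≫ L.map (0 : (0 : C) ⟶ Y)) := by
      rw [← L.map_comp, ← h0]; infer_instance
    haveI := mono_of_mono (L.map (0 : X ⟶ (0 : C))) (L.map (0 : (0 : C) ⟶ Y))
    refine hZ.of_iso ⟨L.map (0 : X ⟶ (0 : C)), L.map (0 : (0 : C) ⟶ X), ?_, hZ.eq_of_src _ _⟩
    rw [← cancel_mono (L.map (0 : X ⟶ (0 : C)))]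
    exact hZ.eq_of_tgt _ _
  · haveI : Epi (L.map (0 : X ⟶ (0 : C)) ≫ L.map (0 : (0 : C) ⟶ Y)) := by
      rw [← L.map_comp, ← h0]; infer_instance
    haveI := epi_of_epi (L.map (0 : X ⟶ (0 : C))) (L.map (0 : (0 : C) ⟶ Y))
    refine hZ.of_iso ⟨L.map (0 : Y ⟶ (0 : C)), L.map (0 : (0 : C) ⟶ Y), ?_, hZ.eq_of_src _ _⟩
    rw [← cancel_epi (L.map (0 : (0 : C) ⟶ Y))]
    exact hZ.eq_of_src _ _

theorem isZero_obj_iff [W.HasLeftCalculusOfFractions] [W.HasRightCalculusOfFractions] (X : C) :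
    (IsZero (L.obj X) ↔ ∃ Y : C, W (0 : X ⟶ Y)) ∧ (IsZero (L.obj X) ↔ ∃ Z : C, W (0 : Z ⟶ X)) := by
  refine ⟨⟨fun h => ?_, fun ⟨Y, hY⟩ => (isZero_obj_of_mem L W hY).1⟩,
    ⟨fun h => ?_, fun ⟨Z, hZ⟩ => (isZero_obj_of_mem L W hZ).2⟩⟩
  · obtain ⟨Y, s, hs, eq⟩ :=
      (MorphismProperty.map_eq_iff_postcomp L W (𝟙 X) 0).1 (h.eq_of_src _ _)
    rw [id_comp, zero_comp] at eq
    exact ⟨Y, eq ▸ hs⟩
  · obtain ⟨Z, s, hs, eq⟩ :=
      (MorphismProperty.map_eq_iff_precomp L W (𝟙 X) 0).1 (h.eq_of_src _ _)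
    rw [comp_id, comp_zero] at eq
    exact ⟨Z, eq ▸ hs⟩

end Groth.Agent.TriLoc.Zero
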